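import Groth.Agent.S0591
import Groth.Agent.S1440
import Groth.Agent.S9193
import Groth.Agent.RichLib.LimitBaseChange
import Groth.Agent.RichLib.FibreRange
import Groth.Agent.DvrDom.Mono

/-!
# Completely decomposed morphisms descend along limits
-/

set_option autoImplicit false
set_option linter.style.haveILetI false

universe u

open CategoryTheory CategoryTheory.Limits AlgebraicGeometry Topology

noncomputable section

namespace Groth.Agent.CdDesc

variable {I : Type u} [SmallCategory I] {D : I ⥤ Scheme.{u}} {c : Cone D}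

/-- Pull back a model of a scheme over the limit to a later stage. -/
theorem exists_pullback_stage {i j : I} (φ : j ⟶ i) {Z W : Scheme.{u}} {z : Z ⟶ c.pt} {w : W ⟶ D.obj i} {q : Z ⟶ W}
    (hq : IsPullback q z w (c.π.app i)) :
    ∃ q' : Z ⟶ pullback w (D.map φ), IsPullback q' z (pullback.snd w (D.map φ)) (c.π.app j) := by
  have w' : q ≫ w = (z ≫ c.π.app j) ≫ D.map φ := by rw [Category.assoc, c.w, hq.w]
  refine ⟨pullback.lift q (z ≫ c.π.app j) w', ?_⟩
  refine IsPullback.of_right (h₁₂ := pullback.fst w (D.map φ)) (h₂₂ := D.map φ) (v₁₃ := w) ?_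
    (pullback.lift_snd _ _ _) (IsPullback.of_hasPullback _ _)
  rw [pullback.lift_fst, c.w]
  exact hq

/-- A piece of the limit with a lift, defined at stage `j`. -/
def Good {i : I} {Xi : Scheme.{u}} (fi : Xi ⟶ D.obj i) {Z : Scheme.{u}} (z : Z ⟶ c.pt) (j : I) (φ : j ⟶ i) : Prop :=
  ∃ (W : Scheme.{u}) (w : W ⟶ D.obj j) (q : Z ⟶ W) (h : W ⟶ Xi), IsPullback q z w (c.π.app j) ∧
    Mono w ∧ LocallyOfFinitePresentation w ∧ QuasiCompact w ∧ h ≫ fi = w ≫ D.map φ

theorem good_of_hom {i : I} {Xi : Scheme.{u}} {fi : Xi ⟶ D.obj i} {Z : Scheme.{u}} {z : Z ⟶ c.pt} {j j' : I}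
    {φ : j ⟶ i} (ψ : j' ⟶ j) (hg : Good fi z j φ) : Good fi z j' (ψ ≫ φ) := by
  obtain ⟨W, w, q, h, hq, hm, hl, hqc, hh⟩ := hg
  obtain ⟨q', hq'⟩ := exists_pullback_stage ψ hq
  refine ⟨_, pullback.snd w (D.map ψ), q', pullback.fst w (D.map ψ) ≫ h, hq', inferInstance,
    MorphismProperty.pullback_snd _ _ hl, MorphismProperty.pullback_snd _ _ hqc, ?_⟩
  rw [Category.assoc, hh, pullback.condition_assoc, D.map_comp]

theorem bijective_residueFieldMap_congr {X Y : Scheme.{u}} {f g : X ⟶ Y} (e : f = g) (x : X)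
    (h : Function.Bijective (g.residueFieldMap x)) : Function.Bijective (f.residueFieldMap x) := by
  subst e; exact h

variable [IsCofiltered I] [∀ (i j : I) (f : i ⟶ j), IsAffineHom (D.map f)] [∀ i, CompactSpace (D.obj i)]
  [∀ i, QuasiSeparatedSpace (D.obj i)]

theorem exists_good (hc : IsLimit c) {i : I} {Xi : Scheme.{u}} (fi : Xi ⟶ D.obj i) [LocallyOfFinitePresentation fi]
    {Z : Scheme.{u}} (z : Z ⟶ c.pt) [IsImmersion z] [LocallyOfFinitePresentation z] [QuasiCompact z]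
    [QuasiSeparated z] (a : Z ⟶ Xi) (ha : a ≫ fi = z ≫ c.π.app i) {j : I} (φ : j ⟶ i) :
    ∃ (j' : I) (ψ : j' ⟶ j), Good fi z j' (ψ ≫ φ) := by
  obtain ⟨i₀, W₀, w₀, q₀, h1, h2, h3, hq₀⟩ := Groth.Agent.S0591.result D c hc Z z
  obtain ⟨k, kj, ki, -⟩ : ∃ (k : I) (kj : k ⟶ j) (_ : k ⟶ i₀), True :=
    ⟨_, IsCofiltered.minToLeft j i₀, IsCofiltered.minToRight j i₀, trivial⟩
  obtain ⟨q₁, hq₁⟩ := exists_pullback_stage ki hq₀
  haveI : LocallyOfFinitePresentation (pullback.snd w₀ (D.map ki)) := MorphismProperty.pullback_snd _ _ h1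
  haveI : QuasiCompact (pullback.snd w₀ (D.map ki)) := MorphismProperty.pullback_snd _ _ h2
  haveI : QuasiSeparated (pullback.snd w₀ (D.map ki)) := MorphismProperty.pullback_snd _ _ h3
  haveI : CompactSpace (pullback w₀ (D.map ki) : Scheme) :=
    QuasiCompact.compactSpace_of_compactSpace (pullback.snd w₀ (D.map ki))
  haveI : QuasiSeparatedSpace (pullback w₀ (D.map ki) : Scheme) :=
    quasiSeparatedSpace_of_quasiSeparated (pullback.snd w₀ (D.map ki))
  obtain ⟨l, lk, W₂, Y₂, w₂, g₂, pY, pX, hY, hX, hW⟩ := Groth.Agent.S9193.result D c hc k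
    (pullback.snd w₀ (D.map ki)) (𝟙 _) z (𝟙 _) (c.π.app k) q₁ (IsPullback.id_vert _) hq₁
  haveI : IsIso g₂ := hY.isIso_snd_of_isIso
  have hsq : IsPullback pX (w₂ ≫ g₂) (pullback.snd w₀ (D.map ki)) (D.map lk) := by simpa using hX.paste_vert hY
  let w := w₂ ≫ g₂
  haveI : Mono w := inferInstanceAs (Mono (w₂ ≫ g₂))
  haveI : LocallyOfFinitePresentation w := MorphismProperty.of_isPullback hsq ‹_›
  haveI : QuasiCompact w := MorphismProperty.of_isPullback hsq ‹_›
  have hw' : q₁ ≫ pullback.snd w₀ (D.map ki) = (z ≫ c.π.app l) ≫ D.map lk := by rw [Category.assoc, c.w, hq₁.w]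
  have hq₂ : IsPullback (hsq.lift q₁ (z ≫ c.π.app l) hw') z w (c.π.app l) := by
    refine IsPullback.of_right (h₁₂ := pX) (h₂₂ := D.map lk) (v₁₃ := pullback.snd w₀ (D.map ki)) ?_
      (hsq.lift_snd _ _ _) hsq
    rw [hsq.lift_fst, c.w]
    exact hq₁
  let A := RichLib.LimBC.ofStage D c hc l
  let B := RichLib.LimBC.pb A w
  haveI : CompactSpace W₂ := QuasiCompact.compactSpace_of_compactSpace w
  haveI : QuasiSeparatedSpace W₂ := quasiSeparatedSpace_of_quasiSeparated w
  haveI : ∀ {p q : Over l} (b : p ⟶ q), IsAffineHom (B.D.map b) := fun b => B.affine_map b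
  haveI : ∀ p, CompactSpace (B.D.obj p) := fun p => B.compactSpace_obj p
  haveI : ∀ p, QuasiSeparatedSpace (B.D.obj p) := fun p => B.quasiSeparatedSpace_obj p
  let t : B.D ⟶ (Functor.const (Over l)).obj (D.obj i) :=
    { app := fun p => B.t p ≫ w ≫ D.map (lk ≫ kj ≫ φ)
      naturality := fun p p' b => by
        dsimp
        rw [Category.comp_id, ← Category.assoc, B.w b] }
  let ez : B.c.pt ≅ Z := hq₂.isoPullback.symm
  have hez : ez.hom ≫ hsq.lift q₁ (z ≫ c.π.app l) hw' = B.s := hq₂.isoPullback_inv_fst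
  obtain ⟨p, g, -, hg⟩ := Scheme.exists_π_app_comp_eq_of_locallyOfFinitePresentation B.D t fi B.c B.hc
    (ez.hom ≫ a) (by
      ext p : 2
      dsimp [t]
      rw [← Category.assoc, B.hs p, ← hez]
      simp only [Category.assoc]
      rw [ha, reassoc_of% hq₂.w, c.w])
  have hp : IsPullback (pullback.fst w (D.map p.hom)) (pullback.snd w (D.map p.hom)) w (D.map p.hom) :=
    IsPullback.of_hasPullback _ _
  obtain ⟨q₃, hq₃⟩ := exists_pullback_stage p.hom hq₂
  refine ⟨p.left, p.hom ≫ lk ≫ kj, _, pullback.snd w (D.map p.hom), q₃, g, hq₃, inferInstance,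
    MorphismProperty.pullback_snd _ _ ‹_›, MorphismProperty.pullback_snd _ _ ‹_›, ?_⟩
  refine hg.trans ?_
  show pullback.fst w (D.map p.hom) ≫ w ≫ D.map (lk ≫ kj ≫ φ) = _
  rw [pullback.condition_assoc, ← D.map_comp]
  simp only [Category.assoc]

/-- Complete decomposition descends to a stage. -/
theorem exists_stage_cd (hc : IsLimit c) {i : I} {Xi X : Scheme.{u}} (fi : Xi ⟶ D.obj i)
    [LocallyOfFinitePresentation fi] (f : X ⟶ c.pt) (pX : X ⟶ Xi) (hX : IsPullback pX f fi (c.π.app i))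
    (hcd : ∀ y : c.pt, ∃ x : X, f x = y ∧ Function.Bijective (f.residueFieldMap x)) :
    ∃ (j : I) (φ : j ⟶ i), ∀ y : D.obj j, ∃ x : (pullback fi (D.map φ) : Scheme),
      pullback.snd fi (D.map φ) x = y ∧ Function.Bijective ((pullback.snd fi (D.map φ)).residueFieldMap x) := by
  classical
  haveI : LocallyOfFinitePresentation f := MorphismProperty.of_isPullback hX ‹_›
  haveI : CompactSpace c.pt := Scheme.compactSpace_of_isLimit D c hc
  haveI : IsAffineHom (c.π.app i) := isAffineHom_π_app D c hc i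
  haveI : QuasiSeparatedSpace c.pt := quasiSeparatedSpace_of_quasiSeparated (c.π.app i)
  obtain ⟨n, Z, z, hcov, hz⟩ := Groth.Agent.S1440.result f hcd
  have key : ∀ T : Finset (Fin n), ∃ (j : I) (φ : j ⟶ i), ∀ a ∈ T, Good fi (z a) j φ := fun T => by
    induction T using Finset.induction_on with
    | empty => exact ⟨i, 𝟙 i, by simp⟩
    | insert a T ha ih =>
      obtain ⟨j, φ, hj⟩ := ih
      obtain ⟨h1, h2, h3, h4, s, hs⟩ := hz a
      obtain ⟨j', ψ, hj'⟩ := exists_good hc fi (z a) (s ≫ pullback.fst f (z a) ≫ pX) (by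
        rw [Category.assoc, Category.assoc, hX.w, pullback.condition_assoc, reassoc_of% hs]) φ
      refine ⟨j', ψ ≫ φ, fun b hb => ?_⟩
      rcases Finset.mem_insert.1 hb with rfl | hb
      exacts [hj', good_of_hom ψ (hj b hb)]
  obtain ⟨j, φ, hj⟩ := key Finset.univ
  choose W w q h hq hm hl hqc hh using fun a => hj a (Finset.mem_univ a)
  let E : Set (D.obj j) := (⋃ a, Set.range (w a))ᶜ
  have hE : IsConstructible E := by
    refine IsConstructible.compl ?_
    refine IsConstructible.iUnion fun a => ?_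
    haveI := hl a
    haveI := hqc a
    haveI : CompactSpace (W a) := QuasiCompact.compactSpace_of_compactSpace (w a)
    rw [← Set.image_univ]
    exact (w a).isConstructible_image IsConstructible.univ
  have hEe : (c.π.app j).base ⁻¹' E = ∅ := Set.eq_empty_iff_forall_notMem.2 fun y hy => by
    obtain ⟨a, z₀, hz₀⟩ := hcov y
    refine hy (Set.mem_iUnion.2 ⟨a, q a z₀, ?_⟩)
    rw [← hz₀, ← Scheme.Hom.comp_apply, ← Scheme.Hom.comp_apply, (hq a).w]
  obtain ⟨l, ψ, hl'⟩ := RichLib.FibreRange.exists_preimage_eq_empty D c hc hE hEe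
  refine ⟨l, ψ ≫ φ, fun y => ?_⟩
  have hy : (D.map ψ).base y ∈ ⋃ a, Set.range (w a) := by
    by_contra hy
    exact Set.eq_empty_iff_forall_notMem.1 hl' y hy
  obtain ⟨a, w₀, hw₀⟩ := Set.mem_iUnion.1 hy
  obtain ⟨v, hv₁, hv₂⟩ := Scheme.Pullback.exists_preimage_pullback w₀ y hw₀
  let σ : pullback (w a) (D.map ψ) ⟶ pullback fi (D.map (ψ ≫ φ)) :=
    pullback.lift (pullback.fst _ _ ≫ h a) (pullback.snd _ _)
      (by rw [Category.assoc, hh a, pullback.condition_assoc, D.map_comp])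
  haveI := hm a
  have hσ : σ ≫ pullback.snd fi (D.map (ψ ≫ φ)) = pullback.snd (w a) (D.map ψ) := pullback.lift_snd _ _ _
  refine ⟨σ v, ?_, RingHom.injective _, ?_⟩
  · rw [← Scheme.Hom.comp_apply, hσ]; exact hv₂
  · have hb := DvrDomLib.residueFieldMap_bijective_of_mono (pullback.snd (w a) (D.map ψ)) v
    have hb' := bijective_residueFieldMap_congr hσ v hb
    rw [Scheme.residueFieldMap_comp] at hb'
    intro r
    obtain ⟨r', hr'⟩ := hb'.2 (σ.residueFieldMap v r)
    exact ⟨r', (σ.residueFieldMap v).hom.injective hr'⟩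

omit [∀ i, CompactSpace (D.obj i)] [∀ i, QuasiSeparatedSpace (D.obj i)] in
/-- The descent statement relative to a stage. -/
theorem main (hc : IsLimit c) (i0 : I) {X0 Y0 X Y : Scheme.{u}} (f0 : X0 ⟶ Y0) (q0 : Y0 ⟶ D.obj i0)
    [CompactSpace ↥Y0] [QuasiSeparatedSpace ↥Y0] [LocallyOfFinitePresentation f0]
    (f : X ⟶ Y) (q : Y ⟶ c.pt) (pY : Y ⟶ Y0) (pX : X ⟶ X0)
    (hY : IsPullback pY q q0 (c.π.app i0)) (hX : IsPullback pX f f0 pY)
    (hcd : ∀ y : Y, ∃ x : X, f x = y ∧ Function.Bijective (f.residueFieldMap x)) :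
    ∃ (i : I) (a : i ⟶ i0) (Xi Yi : Scheme.{u}) (fi : Xi ⟶ Yi) (qi : Yi ⟶ D.obj i) (pYi : Yi ⟶ Y0) (pXi : Xi ⟶ X0),
      IsPullback pYi qi q0 (D.map a) ∧ IsPullback pXi fi f0 pYi ∧
      ∀ y : Yi, ∃ x : Xi, fi x = y ∧ Function.Bijective (fi.residueFieldMap x) := by
  let B := RichLib.LimBC.pb (RichLib.LimBC.ofStage D c hc i0) q0
  haveI : ∀ (p q : Over i0) (b : p ⟶ q), IsAffineHom (B.D.map b) := fun _ _ b => B.affine_map b
  haveI : ∀ p, CompactSpace (B.D.obj p) := fun p => B.compactSpace_obj p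
  haveI : ∀ p, QuasiSeparatedSpace (B.D.obj p) := fun p => B.quasiSeparatedSpace_obj p
  let top : Over i0 := Over.mk (𝟙 i0)
  let e : Y ≅ B.c.pt := hY.isoPullback
  have hout : IsPullback pX (f ≫ e.hom) f0 B.s :=
    hX.of_iso (Iso.refl _) (Iso.refl _) e (Iso.refl _) (by simp) (by simp) (by simp)
      ((Category.comp_id _).trans hY.isoPullback_hom_fst.symm)
  have hT : IsPullback (pullback.fst f0 (B.t top)) (pullback.snd f0 (B.t top)) f0 (B.t top) :=
    IsPullback.of_hasPullback _ _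
  have w : pX ≫ f0 = ((f ≫ e.hom) ≫ B.c.π.app top) ≫ B.t top := by
    simp only [Category.assoc, B.hs top]
    rw [← Category.assoc]
    exact hout.w
  have hX' : IsPullback (hT.lift pX ((f ≫ e.hom) ≫ B.c.π.app top) w) (f ≫ e.hom)
      (pullback.snd f0 (B.t top)) (B.c.π.app top) := by
    refine IsPullback.of_right (h₁₂ := pullback.fst _ _) (h₂₂ := B.t top) (v₁₃ := f0) ?_ (hT.lift_snd _ _ _) hT
    rw [hT.lift_fst, B.hs top]
    exact hout
  have hcd' : ∀ y : B.c.pt, ∃ x : X, (f ≫ e.hom) x = y ∧ Function.Bijective ((f ≫ e.hom).residueFieldMap x) :=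
    fun y => by
      obtain ⟨x, hx, hb⟩ := hcd (e.inv y)
      refine ⟨x, ?_, ?_⟩
      · rw [Scheme.Hom.comp_apply, hx, ← Scheme.Hom.comp_apply, e.inv_hom_id]; rfl
      · rw [Scheme.residueFieldMap_comp]
        have he := DvrDomLib.residueFieldMap_bijective_of_mono e.hom (f x)
        exact hb.comp he
  haveI : LocallyOfFinitePresentation (pullback.snd f0 (B.t top)) := MorphismProperty.pullback_snd _ _ ‹_›
  obtain ⟨j, φ, hj⟩ := exists_stage_cd B.hc (pullback.snd f0 (B.t top)) (f ≫ e.hom) _ hX' hcd'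
  refine ⟨j.left, j.hom, pullback (pullback.snd f0 (B.t top)) (B.D.map φ), pullback q0 (D.map j.hom),
    pullback.snd _ _, pullback.snd q0 (D.map j.hom), pullback.fst q0 (D.map j.hom),
    pullback.fst _ _ ≫ pullback.fst f0 (B.t top), IsPullback.of_hasPullback _ _, ?_, hj⟩
  have := (IsPullback.of_hasPullback (pullback.snd f0 (B.t top)) (B.D.map φ)).paste_horiz hT
  rw [B.w φ] at this
  exact this

end Groth.Agent.CdDesc

end
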